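import Groth.Agent.CohAff.AffineCech
import Groth.Agent.CohAff.CechH
import Groth.Agent.CohLin.Basic
import Groth.Agent.Props.SubExt
import Groth.Agent.CohDev.Coh
import Groth.Agent.Props.QApproxMain

/-!
# Cohomology classes of quasi-coherent modules come from coherent submodules
-/

set_option autoImplicit false

universe u

open CategoryTheory Limits AlgebraicGeometry Opposite TopologicalSpace

noncomputable section

namespace Groth.Agent.CohColim

open Groth.Agent.Props Groth.Agent.Props.SubMod Groth.Agent.Props.SubSheaf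

variable {X : Scheme.{u}}

/-- finitely many sections over affine opens lie in a coherent submodule -/
theorem exists_coh_submodule [CompactSpace X] [QuasiSeparatedSpace X] (F : X.Modules)
    [F.IsQuasicoherent] {κ : Type*} (s : Finset κ) (W : κ → X.Opens)
    (hW : ∀ p, IsAffineOpen (W p)) (c : ∀ p, Γ(F, W p)) :
    ∃ (J : X.Modules) (j : J ⟶ F), Mono j ∧ Coh.IsCoh J ∧
      ∀ p ∈ s, ∃ t : Γ(J, W p), j.app (W p) t = c p := by
  classical
  induction s using Finset.induction with
  | empty =>
    let j : Abelian.image (0 : F ⟶ F) ⟶ F := Abelian.image.ι (0 : F ⟶ F)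
    have hz : IsZero (Abelian.image (0 : F ⟶ F)) :=
      IsZero.of_mono_eq_zero j (by rw [← cancel_epi (Abelian.factorThruImage (0 : F ⟶ F))]; simp [j])
    exact ⟨_, j, inferInstance, CohDev.isCoh_of_isZero hz, fun p hp => absurd hp (Finset.notMem_empty p)⟩
  | insert a s ha ih =>
    obtain ⟨J, j, hj, hJ, hc⟩ := ih
    obtain ⟨S, hS, t₀, ht₀⟩ := SubExt.exists_sub_through_section F (W a) (hW a) (c a)
    have hsub : Coh.IsCoh (sub S) := ⟨isQuasicoherent_sub hS, isFiniteType_sub hS⟩
    let ψ : J ⊞ sub S ⟶ F := biprod.desc j (incl S)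
    have hq : Coh.IsQCoh (Abelian.image ψ) :=
      @QCoh.isQuasicoherent_image X _ _ ψ (CohDev.isQCoh_biprod hJ.1 hsub.1) ‹_›
    refine ⟨Abelian.image ψ, Abelian.image.ι ψ, inferInstance,
      CohDev.isCoh_of_epi (Abelian.factorThruImage ψ) (CohDev.isCoh_biprod hJ hsub) hq, fun p hp => ?_⟩
    have hfac : ∀ (U : X.Opens) (z : Γ(J ⊞ sub S, U)),
        (Abelian.image.ι ψ).app U ((Abelian.factorThruImage ψ).app U z) = ψ.app U z := fun U z => by
      rw [← ConcreteCategory.comp_apply, ← Scheme.Modules.Hom.comp_app, Abelian.image.fac]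
    rcases Finset.mem_insert.1 hp with rfl | hp
    · refine ⟨(Abelian.factorThruImage ψ).app (W p) ((biprod.inr : sub S ⟶ J ⊞ sub S).app (W p) t₀), ?_⟩
      rw [hfac, ← ConcreteCategory.comp_apply, ← Scheme.Modules.Hom.comp_app, biprod.inr_desc, ht₀]
    · obtain ⟨t, ht⟩ := hc p hp
      refine ⟨(Abelian.factorThruImage ψ).app (W p) ((biprod.inl : J ⟶ J ⊞ sub S).app (W p) t), ?_⟩
      rw [hfac, ← ConcreteCategory.comp_apply, ← Scheme.Modules.Hom.comp_app, biprod.inl_desc, ht]

theorem isAffineOpen_inter [X.IsSeparated] {ι : Type u} (U : ι → X.Opens)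
    (hU : ∀ i, IsAffineOpen (U i)) : ∀ {n : ℕ} (x : Fin (n + 1) → ι),
    IsAffineOpen (X := X) (CohAff.inter (X := X.toPresheafedSpace.carrier) U x)
  | 0, x => by
    have : CohAff.inter (X := X.toPresheafedSpace.carrier) U x = U (x 0) :=
      le_antisymm (CohAff.inter_le _ x 0) (CohAff.le_inter fun a => by rw [Fin.eq_zero a])
    rw [this]
    exact hU _
  | n + 1, x => by
    have : CohAff.inter (X := X.toPresheafedSpace.carrier) U x =
        U (x 0) ⊓ CohAff.inter (X := X.toPresheafedSpace.carrier) U (fun a => x a.succ) := by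
      refine le_antisymm (le_inf (CohAff.inter_le _ x 0)
        (CohAff.le_inter fun a => CohAff.inter_le _ x a.succ)) (CohAff.le_inter fun a => ?_)
      refine Fin.cases inf_le_left (fun b => inf_le_right.trans ?_) a
      exact CohAff.inter_le (X := X.toPresheafedSpace.carrier) U (fun a => x a.succ) b
    rw [this]
    exact (hU _).inf (isAffineOpen_inter U hU _)

/-- every cohomology class of a quasi-coherent module comes from a coherent submodule -/
theorem exists_coh_submodule_hMap [CompactSpace X] [X.IsSeparated] (F : X.Modules)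
    [F.IsQuasicoherent] (n : ℕ) (h : Coh.HH X F n) :
    ∃ (J : X.Modules) (j : J ⟶ F), Coh.IsCoh J ∧ ∃ y, CohLin.hMap j n y = h := by
  classical
  have : QuasiSeparatedSpace X := inferInstance
  obtain ⟨σ, hσ⟩ := QApproxMain.exists_affine_finite_cover X
  let U : σ → Opens X.toPresheafedSpace.carrier := fun a => a.1.1
  have hU : ⨆ a, U a = ⊤ := top_le_iff.1 fun x _ => by
    obtain ⟨W, hW, hx⟩ := hσ x
    exact Opens.mem_iSup.2 ⟨⟨W, hW⟩, hx⟩
  have haff : ∀ {m : ℕ} (x : Fin (m + 1) → σ), (CohAff.affCov X).mem (CohAff.inter U x) :=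
    fun x => isAffineOpen_inter (ι := σ) U (fun a => a.1.2) x
  obtain ⟨c, hc, hch⟩ := CohAff.exists_toH_eq hU haff (CohAff.good_affCov F) h
  obtain ⟨J, j, hj, hJ, hex⟩ := exists_coh_submodule F (Finset.univ : Finset (Fin (n + 1) → σ))
    (fun x => CohAff.inter U x) (fun x => haff x) (fun x => c x)
  choose c₁ hc₀ using fun x => hex x (Finset.mem_univ x)
  let c₀ : CohAff.Cochain (Coh.toAb J).obj U n := c₁
  have hmap : CohAff.cmap (CohLin.abMap j).hom U n c₀ = c := funext fun x => by
    exact (CohAff.cmap_apply (CohLin.abMap j).hom U n c₀ x).trans (hc₀ x)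
  have hd : CohAff.cd (Coh.toAb J).obj U n c₀ = 0 := by
    funext x
    apply QCoh.app_injective_of_mono j (CohAff.inter U x)
    refine Eq.trans ?_ (map_zero _).symm
    have := congrFun (CohAff.cd_cmap (CohLin.abMap j).hom U n c₀) x
    rw [hmap, hc] at this
    exact this.symm
  exact ⟨J, j, hJ, CohAff.toH hU n (Coh.toAb J) c₀ hd,
    (CohAff.toH_map hU (CohLin.abMap j) c₀ hd).symm.trans
      ((CohAff.toH_congr hU hmap _ hc).trans hch)⟩

end Groth.Agent.CohColim

end
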